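import Cfsg.Agent.Lib.helper7.LXCOVER
import Cfsg.Agent.Lib.helper7.LXSYN
import Cfsg.Agent.Lib.helper7.LXFR45
import Cfsg.Agent.Lib.Helper11.LXPRS
import Cfsg.Agent.Lib.Helper1.LXPL2
import Cfsg.Agent.Lib.Helper1.LXPL43
import Cfsg.Agent.Lib.helper2.LXT2Q2
import Cfsg.Agent.Lib.Helper11.ASCPR1
import Cfsg.Agent.Lib.Helper24.ASCPR2
import Cfsg.Agent.Lib.helper6.ASCPR3
import Cfsg.Agent.Lib.Helper10.ASCPR5
import Cfsg.Agent.Lib.Helper21.ASCPR8Q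
import Cfsg.Agent.Lib.helper23.ASCPR8U
import Cfsg.Agent.Lib.Helper11.ASCRED
import Cfsg.Agent.Lib.Helper19.ASCDEC2
import Cfsg.Agent.Lib.Helper16.ASCDEC3
import Cfsg.Agent.Lib.Helper24.ASCDEC4
import Cfsg.Agent.Lib.Helper18.ASCSCHURB
import Cfsg.Agent.Lib.Helper11.LXPRT
import Cfsg.Agent.Lib.Helper11.LXPR6
import Cfsg.Agent.Lib.Helper28.Ld.Trans

/-!
# Project LX : assembly
-/

set_option autoImplicit false
set_option linter.unusedVariables false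
set_option linter.unusedSectionVars false

namespace Cfsg.Agent.Lib.helper7.LX

open Cfsg Cfsg.Geo Cfsg.Agent.Lib.Helper27.ASC
open scoped MatrixGroups Matrix

variable {n : ℕ} {F : Type*} [Field F] [Fintype F]

/-- The frozen statement of S5630 in dimension `n`. -/
def ASGStmt (n : ℕ) (F : Type*) [Field F] [Fintype F] : Prop :=
  ∀ H : Subgroup (GL (Fin n) F), H ≤ specialLinear (Fin n) F →
    H ⊔ (scalars (Fin n) F ⊓ specialLinear (Fin n) F) ≠ specialLinear (Fin n) F →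
    (∃ M : Subgroup (GL (Fin n) F), InLinearClass n F M ∧ H ≤ M) ∨ InLinearResidualClass H

/-- The refined conclusion for a maximal subgroup of `SL_n`. -/
def LXConcl (n : ℕ) (F : Type*) [Field F] [Fintype F] (H : Subgroup (GL (Fin n) F)) : Prop :=
  (∃ W : Submodule F (Fin n → F), W ≠ ⊥ ∧ W ≠ ⊤ ∧ H = subspaceStabilizer W ⊓ specialLinear (Fin n) F) ∨
  (∃ (t m : ℕ) (D : Fin t → Submodule F (Fin n → F)), IsMDecomposition m D ∧
    H = decompositionStabilizer D ⊓ specialLinear (Fin n) F) ∨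
  (∃ (r : ℕ) (K : Subalgebra F (Matrix (Fin n) (Fin n) F)), r.Prime ∧ IsFieldSubalgebra r K ∧
    H = subalgebraNormalizer K ⊓ specialLinear (Fin n) F) ∨
  (∃ (n₁ n₂ : ℕ) (e : Fin n ≃ Fin n₁ × Fin n₂) (P : GL (Fin n) F), 2 ≤ n₁ ∧ n₁ < n₂ ∧
    H = tensorProductSubgroup n₁ n₂ e P ⊓ specialLinear (Fin n) F) ∨
  (∃ (F₀ : Subfield F) (r : ℕ) (P : GL (Fin n) F), r.Prime ∧ Fintype.card F = Nat.card F₀ ^ r ∧
    H = subfieldSubgroup F₀ P ⊓ specialLinear (Fin n) F) ∨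
  (∃ (r : ℕ) (R : Subgroup (GL (Fin n) F)), IsLinearSymplecticTypeData r R ∧
    H = subgroupNormalizer R ⊓ specialLinear (Fin n) F) ∨
  (∃ (m t : ℕ) (e : Fin n ≃ (Fin t → Fin m)) (P : GL (Fin n) F), 3 ≤ m ∧ 2 ≤ t ∧
    H = tensorWreathSubgroup m t e P ⊓ specialLinear (Fin n) F) ∨
  (∃ f : (Fin n → F) → (Fin n → F) → F, IsSymplecticForm f ∧ Even n ∧ 4 ≤ n ∧
    H = similarityGroup f ⊓ specialLinear (Fin n) F) ∨
  (∃ (σ : F ≃+* F) (f : (Fin n → F) → (Fin n → F) → F), IsUnitaryForm σ f ∧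
    H = similarityGroup f ⊓ specialLinear (Fin n) F) ∨
  (∃ Q : (Fin n → F) → F, IsNondegenerateQuadraticForm Q ∧ Odd (Fintype.card F) ∧
    H = quadSimilarityGroup Q ⊓ specialLinear (Fin n) F) ∨
  InLinearResidualClass H

/-- a subfield of prime index is proper -/
theorem lx_ne_top_of_card_pow {F₁ : Subfield F} {ℓ : ℕ} (hℓ : ℓ.Prime) (h : Fintype.card F = Nat.card F₁ ^ ℓ) :
    F₁ ≠ ⊤ := by
  rintro rfl
  have h1 : Nat.card (⊤ : Subfield F) = Fintype.card F := by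
    rw [← Nat.card_eq_fintype_card]
    exact Nat.card_congr (Subfield.topEquiv (K := F)).toEquiv
  rw [h1] at h
  have h2 : 1 < Fintype.card F := Fintype.one_lt_card
  have h3 : 2 ≤ ℓ := hℓ.two_le
  have : Fintype.card F ^ 1 < Fintype.card F ^ ℓ := Nat.pow_lt_pow_right h2 (by omega)
  rw [pow_one] at this
  omega

/-- the cardinality of the index set of a tensor decomposition -/
theorem lx_tensor_card {n₁ n₂ : ℕ} (e : Fin n ≃ Fin n₁ × Fin n₂) : n = n₁ * n₂ := by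
  have := Fintype.card_congr e
  simpa using this

/-- the cardinality of the index set of a tensor-wreath decomposition -/
theorem lx_wreath_card {m t : ℕ} (e : Fin n ≃ (Fin t → Fin m)) : n = m ^ t := by
  have := Fintype.card_congr e
  simpa using this

/-- LXMAX : a maximal subgroup of `SL_n`, `n ≥ 3`, is the intersection of `SL_n` with a member of a class, or
residual. -/
theorem lx_max (hn : 3 ≤ n) (hASG : ASGStmt n F) {H : Subgroup (GL (Fin n) F)}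
    (hH : IsMaximalIn (specialLinear (Fin n) F) H) : LXConcl n F H := by
  rcases hASG H hH.1.le (max_not_cover hn hH) with ⟨M, hM, hle⟩ | hres
  · rcases hM with ⟨W, h0, h1, rfl⟩ | ⟨W, U, h0, hWU, hd, rfl⟩ | ⟨W, U, h0, hi, hs, hd, rfl⟩ |
      ⟨t, m, D, hD, rfl⟩ | ⟨r, K, hr, hK, rfl⟩ | ⟨n₁, n₂, e, P, h1, h2, rfl⟩ | ⟨F₀, r, P, hr, hc, rfl⟩ |
      ⟨r, R, hR, rfl⟩ | ⟨m, t, e, P, hm, ht, rfl⟩ | ⟨f, hf, he, h4, rfl⟩ | ⟨σ, f, hf, h3, rfl⟩ |
      ⟨Q, hQ, ho, h3, rfl⟩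
    · exact Or.inl ⟨W, h0, h1, max_principle hH hle (pr_subspace W h0 h1)⟩
    · have h1 : W ≠ ⊤ := fun h => by
        rw [h] at hWU
        exact absurd (le_top : U ≤ ⊤) (not_le_of_gt hWU)
      exact Or.inl ⟨W, h0, h1, max_principle hH (hle.trans inf_le_left) (pr_subspace W h0 h1)⟩
    · have h1 : W ≠ ⊤ := fun h => by
        rw [h] at hd
        have h2 : Module.finrank F U ≤ Module.finrank F (⊤ : Submodule F (Fin n → F)) :=
          Submodule.finrank_mono le_top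
        omega
      exact Or.inl ⟨W, h0, h1, max_principle hH (hle.trans inf_le_left) (pr_subspace W h0 h1)⟩
    · exact Or.inr (Or.inl ⟨t, m, D, hD, max_principle hH hle (pr_dec D hD)⟩)
    · exact Or.inr (Or.inr (Or.inl ⟨r, K, hr, hK, max_principle hH hle (pr_field hn hr.two_le K hK)⟩))
    · exact Or.inr (Or.inr (Or.inr (Or.inl ⟨n₁, n₂, e, P, h1, h2,
        max_principle hH hle (pr_tensor h1 (by omega) e P)⟩)))
    · exact Or.inr (Or.inr (Or.inr (Or.inr (Or.inl ⟨F₀, r, P, hr, hc,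
        max_principle hH hle (pr_subfield (by omega) F₀ (lx_ne_top_of_card_pow hr hc) P)⟩))))
    · exact Or.inr (Or.inr (Or.inr (Or.inr (Or.inr (Or.inl ⟨r, R, hR,
        max_principle hH hle (pr_sympl_type_gen hn R hR)⟩)))))
    · exact Or.inr (Or.inr (Or.inr (Or.inr (Or.inr (Or.inr (Or.inl ⟨m, t, e, P, hm, ht,
        max_principle hH hle (pr_wreath (by omega) ht e P)⟩))))))
    · exact Or.inr (Or.inr (Or.inr (Or.inr (Or.inr (Or.inr (Or.inr (Or.inl ⟨f, hf, he, h4,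
        max_principle hH hle (pr_symp hn f hf)⟩)))))))
    · exact Or.inr (Or.inr (Or.inr (Or.inr (Or.inr (Or.inr (Or.inr (Or.inr (Or.inl ⟨σ, f, hf,
        max_principle hH hle (pr_unit hn σ f hf)⟩))))))))
    · exact Or.inr (Or.inr (Or.inr (Or.inr (Or.inr (Or.inr (Or.inr (Or.inr (Or.inr (Or.inl ⟨Q, hQ, ho,
        max_principle hH hle (pr_quad hn Q hQ)⟩)))))))))
  · exact Or.inr (Or.inr (Or.inr (Or.inr (Or.inr (Or.inr (Or.inr (Or.inr (Or.inr (Or.inr hres)))))))))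

/-- frames over the fields with 2, 3, 4 elements -/
theorem lx_frame (hn : 3 ≤ n) {H : Subgroup (GL (Fin n) F)} (hH : IsMaximalIn (specialLinear (Fin n) F) H)
    {t : ℕ} (D : Fin t → Submodule F (Fin n → F)) (hD : IsMDecomposition 1 D)
    (hHD : H = decompositionStabilizer D ⊓ specialLinear (Fin n) F) (hq : ¬ 5 ≤ Fintype.card F) :
    (∃ W : Submodule F (Fin n → F), W ≠ ⊥ ∧ W ≠ ⊤ ∧ H = subspaceStabilizer W ⊓ specialLinear (Fin n) F) ∨
    (Odd (Fintype.card F) ∧ ∃ Q : (Fin n → F) → F, IsNondegenerateQuadraticForm Q ∧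
      H = quadSimilarityGroup Q ⊓ specialLinear (Fin n) F) ∨
    (∃ (σ : F ≃+* F) (f : (Fin n → F) → (Fin n → F) → F), IsUnitaryForm σ f ∧
      H = similarityGroup f ⊓ specialLinear (Fin n) F) := by
  have hle : H ≤ decompositionStabilizer D := hHD ▸ inf_le_left
  have h1 : 1 < Fintype.card F := Fintype.one_lt_card
  have hcases : Fintype.card F = 2 ∨ Fintype.card F = 3 ∨ Fintype.card F = 4 := by omega
  rcases hcases with h | h | h
  · obtain ⟨W, h0, h1, hW⟩ := red_case H (dec_q2 D hD h hle)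
    exact Or.inl ⟨W, h0, h1, max_principle hH hW (pr_subspace W h0 h1)⟩
  · obtain ⟨Q, hQ, hQle⟩ := dec_q3 D hD h
    exact Or.inr (Or.inl ⟨by rw [h]; decide, Q, hQ, max_principle hH (hle.trans hQle) (pr_quad hn Q hQ)⟩)
  · obtain ⟨σ, f, hf, hfle⟩ := dec_q4 D hD h
    exact Or.inr (Or.inr ⟨σ, f, hf, max_principle hH (hle.trans hfle) (pr_unit hn σ f hf)⟩)

/-- decompositions into planes over the field with 2 elements -/
theorem lx_planes2 (hn : 3 ≤ n) {H : Subgroup (GL (Fin n) F)} (hH : IsMaximalIn (specialLinear (Fin n) F) H)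
    {t : ℕ} (D : Fin t → Submodule F (Fin n → F)) (hD : IsMDecomposition 2 D)
    (hHD : H = decompositionStabilizer D ⊓ specialLinear (Fin n) F) (hq : ¬ 3 ≤ Fintype.card F) :
    ∃ f : (Fin n → F) → (Fin n → F) → F, IsSymplecticForm f ∧
      H = similarityGroup f ⊓ specialLinear (Fin n) F := by
  have hle : H ≤ decompositionStabilizer D := hHD ▸ inf_le_left
  have h1 : 1 < Fintype.card F := Fintype.one_lt_card
  obtain ⟨f, hf, hfle⟩ := planes_q2 D hD (by omega)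
  exact ⟨f, hf, max_principle hH (hle.trans hfle) (pr_symp hn f hf)⟩

/-- tensor decompositions `2 ⊗ k` over the field with 2 elements -/
theorem lx_tensor2 (hn : 3 ≤ n) {H : Subgroup (GL (Fin n) F)} (hH : IsMaximalIn (specialLinear (Fin n) F) H)
    {k : ℕ} (e : Fin n ≃ Fin 2 × Fin k) (P : GL (Fin n) F)
    (hHD : H = tensorProductSubgroup 2 k e P ⊓ specialLinear (Fin n) F) (hq : ¬ 3 ≤ Fintype.card F) :
    ∃ K : Subalgebra F (Matrix (Fin n) (Fin n) F), IsFieldSubalgebra 2 K ∧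
      H = subalgebraNormalizer K ⊓ specialLinear (Fin n) F := by
  have hle : H ≤ tensorProductSubgroup 2 k e P := hHD ▸ inf_le_left
  have h1 : 1 < Fintype.card F := Fintype.one_lt_card
  have hk : 0 < k := by
    have := lx_tensor_card e
    omega
  obtain ⟨K, hK, hKle⟩ := tensor2_q2 hk e P (by omega)
  exact ⟨K, hK, max_principle hH (hle.trans hKle) (pr_field hn (le_refl 2) K hK)⟩

/-- a prime power that is `6`, `10` or `12`: impossible -/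
theorem lx_not_prime_pow {r m : ℕ} (hr : r.Prime) : 6 ≠ r ^ m ∧ 10 ≠ r ^ m ∧ 12 ≠ r ^ m := by
  refine ⟨fun h => ?_, fun h => ?_, fun h => ?_⟩
  · have h2 : r = 2 := ((Nat.prime_dvd_prime_iff_eq Nat.prime_two hr).mp
      (Nat.prime_two.dvd_of_dvd_pow (h ▸ (by norm_num : 2 ∣ 6)))).symm
    have h3 : r = 3 := ((Nat.prime_dvd_prime_iff_eq Nat.prime_three hr).mp
      (Nat.prime_three.dvd_of_dvd_pow (h ▸ (by norm_num : 3 ∣ 6)))).symm
    omega
  · have h2 : r = 2 := ((Nat.prime_dvd_prime_iff_eq Nat.prime_two hr).mp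
      (Nat.prime_two.dvd_of_dvd_pow (h ▸ (by norm_num : 2 ∣ 10)))).symm
    have h5 : r = 5 := ((Nat.prime_dvd_prime_iff_eq Nat.prime_five hr).mp
      (Nat.prime_five.dvd_of_dvd_pow (h ▸ (by norm_num : 5 ∣ 10)))).symm
    omega
  · have h2 : r = 2 := ((Nat.prime_dvd_prime_iff_eq Nat.prime_two hr).mp
      (Nat.prime_two.dvd_of_dvd_pow (h ▸ (by norm_num : 2 ∣ 12)))).symm
    have h3 : r = 3 := ((Nat.prime_dvd_prime_iff_eq Nat.prime_three hr).mp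
      (Nat.prime_three.dvd_of_dvd_pow (h ▸ (by norm_num : 3 ∣ 12)))).symm
    omega

/-- `SL_6` -/
theorem lx6 (hASG : ASGStmt 6 F) (H : Subgroup (GL (Fin 6) F))
    (hH : IsMaximalIn (specialLinear (Fin 6) F) H) :
    (∃ W : Submodule F (Fin 6 → F), W ≠ ⊥ ∧ W ≠ ⊤ ∧ H = subspaceStabilizer W ⊓ specialLinear (Fin 6) F) ∨
    (5 ≤ Fintype.card F ∧ ∃ D : Fin 6 → Submodule F (Fin 6 → F), IsMDecomposition 1 D ∧ H = decompositionStabilizer D ⊓ specialLinear (Fin 6) F) ∨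
    (3 ≤ Fintype.card F ∧ ∃ D : Fin 3 → Submodule F (Fin 6 → F), IsMDecomposition 2 D ∧ H = decompositionStabilizer D ⊓ specialLinear (Fin 6) F) ∨
    (∃ D : Fin 2 → Submodule F (Fin 6 → F), IsMDecomposition 3 D ∧ H = decompositionStabilizer D ⊓ specialLinear (Fin 6) F) ∨
    (∃ K : Subalgebra F (Matrix (Fin 6) (Fin 6) F), IsFieldSubalgebra 2 K ∧ H = subalgebraNormalizer K ⊓ specialLinear (Fin 6) F) ∨
    (∃ K : Subalgebra F (Matrix (Fin 6) (Fin 6) F), IsFieldSubalgebra 3 K ∧ H = subalgebraNormalizer K ⊓ specialLinear (Fin 6) F) ∨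
    (3 ≤ Fintype.card F ∧ ∃ (e : Fin 6 ≃ Fin 2 × Fin 3) (P : GL (Fin 6) F), H = tensorProductSubgroup 2 3 e P ⊓ specialLinear (Fin 6) F) ∨
    (∃ (F₀ : Subfield F) (r : ℕ) (P : GL (Fin 6) F), r.Prime ∧ Fintype.card F = Nat.card F₀ ^ r ∧ H = subfieldSubgroup F₀ P ⊓ specialLinear (Fin 6) F) ∨
    (Odd (Fintype.card F) ∧ ∃ Q : (Fin 6 → F) → F, IsNondegenerateQuadraticForm Q ∧ H = quadSimilarityGroup Q ⊓ specialLinear (Fin 6) F) ∨
    (∃ f : (Fin 6 → F) → (Fin 6 → F) → F, IsSymplecticForm f ∧ H = similarityGroup f ⊓ specialLinear (Fin 6) F) ∨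
    (∃ (σ : F ≃+* F) (f : (Fin 6 → F) → (Fin 6 → F) → F), IsUnitaryForm σ f ∧ H = similarityGroup f ⊓ specialLinear (Fin 6) F) ∨
    InLinearResidualClass H := by
  have hn : 3 ≤ 6 := by norm_num
  rcases lx_max hn hASG hH with ⟨W, h0, h1, hW⟩ | ⟨t, m, D, hD, hHD⟩ | ⟨r, K, hr, hK, hHK⟩ |
    ⟨n₁, n₂, e, P, h1, h2, hHT⟩ | ⟨F₀, r, P, hr, hc, hHS⟩ | ⟨r, R, hR, hHR⟩ | ⟨m, t, e, P, hm, ht, hHW⟩ |
    ⟨f, hf, he, h4, hHf⟩ | ⟨σ, f, hf, hHf⟩ | ⟨Q, hQ, ho, hHQ⟩ | hres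
  · exact Or.inl ⟨W, h0, h1, hW⟩
  · have hc := Cfsg.Agent.Lib.Helper28.Ld.card_eq D hD
    have h2 := hD.two_le
    have h0 := hD.pos
    have ht6 : t ≤ 6 := by nlinarith
    interval_cases t
    · -- t = 2, m = 3
      obtain rfl : m = 3 := by omega
      exact Or.inr (Or.inr (Or.inr (Or.inl ⟨D, hD, hHD⟩)))
    · -- t = 3, m = 2
      obtain rfl : m = 2 := by omega
      by_cases h3 : 3 ≤ Fintype.card F
      · exact Or.inr (Or.inr (Or.inl ⟨h3, D, hD, hHD⟩))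
      · obtain ⟨f, hf, hHf⟩ := lx_planes2 hn hH D hD hHD h3
        exact Or.inr (Or.inr (Or.inr (Or.inr (Or.inr (Or.inr (Or.inr (Or.inr (Or.inr (Or.inl
          ⟨f, hf, hHf⟩)))))))))
    · omega
    · omega
    · -- t = 6, m = 1
      obtain rfl : m = 1 := by omega
      by_cases h5 : 5 ≤ Fintype.card F
      · exact Or.inr (Or.inl ⟨h5, D, hD, hHD⟩)
      · rcases lx_frame hn hH D hD hHD h5 with ⟨W, h0, h1, hW⟩ | ⟨ho, Q, hQ, hHQ⟩ | ⟨σ, f, hf, hHf⟩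
        · exact Or.inl ⟨W, h0, h1, hW⟩
        · exact Or.inr (Or.inr (Or.inr (Or.inr (Or.inr (Or.inr (Or.inr (Or.inr (Or.inl
            ⟨ho, Q, hQ, hHQ⟩))))))))
        · exact Or.inr (Or.inr (Or.inr (Or.inr (Or.inr (Or.inr (Or.inr (Or.inr (Or.inr (Or.inr (Or.inl
            ⟨σ, f, hf, hHf⟩))))))))))
  · have hdvd : r ∣ 6 := field_finrank_dvd (by norm_num) K hK
    have hr6 : r ≤ 6 := Nat.le_of_dvd (by norm_num) hdvd
    have hr2 := hr.two_le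
    interval_cases r
    · exact Or.inr (Or.inr (Or.inr (Or.inr (Or.inl ⟨K, hK, hHK⟩))))
    · exact Or.inr (Or.inr (Or.inr (Or.inr (Or.inr (Or.inl ⟨K, hK, hHK⟩)))))
    · exact absurd hr (by norm_num)
    · exact absurd hdvd (by norm_num)
    · exact absurd hr (by norm_num)
  · have hc := lx_tensor_card e
    have hn1 : n₁ ≤ 6 := by nlinarith
    have hn2 : n₂ ≤ 6 := by nlinarith
    interval_cases n₁ <;> interval_cases n₂ <;> first | omega | skip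
    by_cases h3 : 3 ≤ Fintype.card F
    · exact Or.inr (Or.inr (Or.inr (Or.inr (Or.inr (Or.inr (Or.inl ⟨h3, e, P, hHT⟩))))))
    · obtain ⟨K, hK, hHK⟩ := lx_tensor2 hn hH e P hHT h3
      exact Or.inr (Or.inr (Or.inr (Or.inr (Or.inl ⟨K, hK, hHK⟩))))
  · exact Or.inr (Or.inr (Or.inr (Or.inr (Or.inr (Or.inr (Or.inr (Or.inl ⟨F₀, r, P, hr, hc, hHS⟩)))))))
  · obtain ⟨hr, ⟨m, hm1, hm⟩, -⟩ := symplType_dim hn R hR
    exact absurd hm (lx_not_prime_pow hr).1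
  · have hc := lx_wreath_card e
    have : 3 ^ 2 ≤ m ^ t := (Nat.pow_le_pow_left hm 2).trans (Nat.pow_le_pow_right (by omega) ht)
    omega
  · exact Or.inr (Or.inr (Or.inr (Or.inr (Or.inr (Or.inr (Or.inr (Or.inr (Or.inr (Or.inl
      ⟨f, hf, hHf⟩)))))))))
  · exact Or.inr (Or.inr (Or.inr (Or.inr (Or.inr (Or.inr (Or.inr (Or.inr (Or.inr (Or.inr (Or.inl
      ⟨σ, f, hf, hHf⟩))))))))))
  · exact Or.inr (Or.inr (Or.inr (Or.inr (Or.inr (Or.inr (Or.inr (Or.inr (Or.inl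
      ⟨ho, Q, hQ, hHQ⟩))))))))
  · exact Or.inr (Or.inr (Or.inr (Or.inr (Or.inr (Or.inr (Or.inr (Or.inr (Or.inr (Or.inr (Or.inr
      hres))))))))))

/-- `SL_8` -/
theorem lx8 (hASG : ASGStmt 8 F) (H : Subgroup (GL (Fin 8) F))
    (hH : IsMaximalIn (specialLinear (Fin 8) F) H) :
    (∃ W : Submodule F (Fin 8 → F), W ≠ ⊥ ∧ W ≠ ⊤ ∧ H = subspaceStabilizer W ⊓ specialLinear (Fin 8) F) ∨
    (5 ≤ Fintype.card F ∧ ∃ D : Fin 8 → Submodule F (Fin 8 → F), IsMDecomposition 1 D ∧ H = decompositionStabilizer D ⊓ specialLinear (Fin 8) F) ∨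
    (3 ≤ Fintype.card F ∧ ∃ D : Fin 4 → Submodule F (Fin 8 → F), IsMDecomposition 2 D ∧ H = decompositionStabilizer D ⊓ specialLinear (Fin 8) F) ∨
    (∃ D : Fin 2 → Submodule F (Fin 8 → F), IsMDecomposition 4 D ∧ H = decompositionStabilizer D ⊓ specialLinear (Fin 8) F) ∨
    (∃ K : Subalgebra F (Matrix (Fin 8) (Fin 8) F), IsFieldSubalgebra 2 K ∧ H = subalgebraNormalizer K ⊓ specialLinear (Fin 8) F) ∨
    (3 ≤ Fintype.card F ∧ ∃ (e : Fin 8 ≃ Fin 2 × Fin 4) (P : GL (Fin 8) F), H = tensorProductSubgroup 2 4 e P ⊓ specialLinear (Fin 8) F) ∨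
    (∃ (F₀ : Subfield F) (r : ℕ) (P : GL (Fin 8) F), r.Prime ∧ Fintype.card F = Nat.card F₀ ^ r ∧ H = subfieldSubgroup F₀ P ⊓ specialLinear (Fin 8) F) ∨
    ((∃ p : ℕ, p.Prime ∧ Fintype.card F = p ∧ (p % 4 = 1)) ∧ ∃ R : Subgroup (GL (Fin 8) F), IsLinearSymplecticTypeData 2 R ∧ H = subgroupNormalizer R ⊓ specialLinear (Fin 8) F) ∨
    (Odd (Fintype.card F) ∧ ∃ Q : (Fin 8 → F) → F, IsNondegenerateQuadraticForm Q ∧ H = quadSimilarityGroup Q ⊓ specialLinear (Fin 8) F) ∨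
    (∃ f : (Fin 8 → F) → (Fin 8 → F) → F, IsSymplecticForm f ∧ H = similarityGroup f ⊓ specialLinear (Fin 8) F) ∨
    (∃ (σ : F ≃+* F) (f : (Fin 8 → F) → (Fin 8 → F) → F), IsUnitaryForm σ f ∧ H = similarityGroup f ⊓ specialLinear (Fin 8) F) ∨
    InLinearResidualClass H := by
  have hn : 3 ≤ 8 := by norm_num
  have hq1 : 1 < Fintype.card F := Fintype.one_lt_card
  rcases lx_max hn hASG hH with ⟨W, h0, h1, hW⟩ | ⟨t, m, D, hD, hHD⟩ | ⟨r, K, hr, hK, hHK⟩ |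
    ⟨n₁, n₂, e, P, h1, h2, hHT⟩ | ⟨F₀, r, P, hr, hc, hHS⟩ | ⟨r, R, hR, hHR⟩ | ⟨m, t, e, P, hm, ht, hHW⟩ |
    ⟨f, hf, he, h4, hHf⟩ | ⟨σ, f, hf, hHf⟩ | ⟨Q, hQ, ho, hHQ⟩ | hres
  · exact Or.inl ⟨W, h0, h1, hW⟩
  · have hc := Cfsg.Agent.Lib.Helper28.Ld.card_eq D hD
    have h2 := hD.two_le
    have h0 := hD.pos
    have ht6 : t ≤ 8 := by nlinarith
    interval_cases t
    · -- t = 2, m = 4
      obtain rfl : m = 4 := by omega
      exact Or.inr (Or.inr (Or.inr (Or.inl ⟨D, hD, hHD⟩)))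
    · omega
    · -- t = 4, m = 2
      obtain rfl : m = 2 := by omega
      by_cases h3 : 3 ≤ Fintype.card F
      · exact Or.inr (Or.inr (Or.inl ⟨h3, D, hD, hHD⟩))
      · obtain ⟨f, hf, hHf⟩ := lx_planes2 hn hH D hD hHD h3
        exact Or.inr (Or.inr (Or.inr (Or.inr (Or.inr (Or.inr (Or.inr (Or.inr (Or.inr (Or.inl ⟨f, hf, hHf⟩)))))))))
    · omega
    · omega
    · omega
    · -- t = 8, m = 1
      obtain rfl : m = 1 := by omega
      by_cases h5 : 5 ≤ Fintype.card F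
      · exact Or.inr (Or.inl ⟨h5, D, hD, hHD⟩)
      · rcases lx_frame hn hH D hD hHD h5 with ⟨W, h0, h1, hW⟩ | ⟨ho, Q, hQ, hHQ⟩ | ⟨σ, f, hf, hHf⟩
        · exact Or.inl ⟨W, h0, h1, hW⟩
        · exact Or.inr (Or.inr (Or.inr (Or.inr (Or.inr (Or.inr (Or.inr (Or.inr (Or.inl ⟨ho, Q, hQ, hHQ⟩))))))))
        · exact Or.inr (Or.inr (Or.inr (Or.inr (Or.inr (Or.inr (Or.inr (Or.inr (Or.inr (Or.inr (Or.inl ⟨σ, f, hf, hHf⟩))))))))))
  · have hdvd : r ∣ 8 := field_finrank_dvd (by norm_num) K hK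
    have hr6 : r ≤ 8 := Nat.le_of_dvd (by norm_num) hdvd
    have hr2 := hr.two_le
    interval_cases r
    · exact Or.inr (Or.inr (Or.inr (Or.inr (Or.inl ⟨K, hK, hHK⟩))))
    · exact absurd hdvd (by norm_num)
    · exact absurd hr (by norm_num)
    · exact absurd hdvd (by norm_num)
    · exact absurd hr (by norm_num)
    · exact absurd hdvd (by norm_num)
    · exact absurd hr (by norm_num)
  · have hc := lx_tensor_card e
    have hn1 : n₁ ≤ 8 := by nlinarith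
    have hn2 : n₂ ≤ 8 := by nlinarith
    interval_cases n₁ <;> interval_cases n₂ <;> first | omega | skip
    · by_cases h3 : 3 ≤ Fintype.card F
      · exact Or.inr (Or.inr (Or.inr (Or.inr (Or.inr (Or.inl ⟨h3, e, P, hHT⟩)))))
      · obtain ⟨K, hK, hHK⟩ := lx_tensor2 hn hH e P hHT h3
        exact Or.inr (Or.inr (Or.inr (Or.inr (Or.inl ⟨K, hK, hHK⟩))))
  · exact Or.inr (Or.inr (Or.inr (Or.inr (Or.inr (Or.inr (Or.inl ⟨F₀, r, P, hr, hc, hHS⟩))))))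
  · obtain ⟨hr, ⟨m, hm1, hm⟩, hfield⟩ := symplType_dim hn R hR
    have hr0 : r = 2 := ((Nat.prime_dvd_prime_iff_eq Nat.prime_two hr).mp
      (Nat.prime_two.dvd_of_dvd_pow (hm ▸ (by norm_num : 2 ∣ 8)))).symm
    subst hr0
    rcases hfield with ⟨-, p, hp, hcard, hmod⟩ | ⟨hodd, -⟩
    · exact Or.inr (Or.inr (Or.inr (Or.inr (Or.inr (Or.inr (Or.inr (Or.inl ⟨⟨p, hp, hcard, hmod⟩, R, hR, hHR⟩)))))))
    · exact absurd hodd (by decide)
  · have hc := lx_wreath_card e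
    have : 3 ^ 2 ≤ m ^ t := (Nat.pow_le_pow_left hm 2).trans (Nat.pow_le_pow_right (by omega) ht)
    omega
  · exact Or.inr (Or.inr (Or.inr (Or.inr (Or.inr (Or.inr (Or.inr (Or.inr (Or.inr (Or.inl ⟨f, hf, hHf⟩)))))))))
  · exact Or.inr (Or.inr (Or.inr (Or.inr (Or.inr (Or.inr (Or.inr (Or.inr (Or.inr (Or.inr (Or.inl ⟨σ, f, hf, hHf⟩))))))))))
  · exact Or.inr (Or.inr (Or.inr (Or.inr (Or.inr (Or.inr (Or.inr (Or.inr (Or.inl ⟨ho, Q, hQ, hHQ⟩))))))))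
  · exact Or.inr (Or.inr (Or.inr (Or.inr (Or.inr (Or.inr (Or.inr (Or.inr (Or.inr (Or.inr (Or.inr (hres)))))))))))

/-- `SL_9` -/
theorem lx9 (hASG : ASGStmt 9 F) (H : Subgroup (GL (Fin 9) F))
    (hH : IsMaximalIn (specialLinear (Fin 9) F) H) :
    (∃ W : Submodule F (Fin 9 → F), W ≠ ⊥ ∧ W ≠ ⊤ ∧ H = subspaceStabilizer W ⊓ specialLinear (Fin 9) F) ∨
    (5 ≤ Fintype.card F ∧ ∃ D : Fin 9 → Submodule F (Fin 9 → F), IsMDecomposition 1 D ∧ H = decompositionStabilizer D ⊓ specialLinear (Fin 9) F) ∨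
    (∃ D : Fin 3 → Submodule F (Fin 9 → F), IsMDecomposition 3 D ∧ H = decompositionStabilizer D ⊓ specialLinear (Fin 9) F) ∨
    (∃ K : Subalgebra F (Matrix (Fin 9) (Fin 9) F), IsFieldSubalgebra 3 K ∧ H = subalgebraNormalizer K ⊓ specialLinear (Fin 9) F) ∨
    (∃ (F₀ : Subfield F) (r : ℕ) (P : GL (Fin 9) F), r.Prime ∧ Fintype.card F = Nat.card F₀ ^ r ∧ H = subfieldSubgroup F₀ P ⊓ specialLinear (Fin 9) F) ∨
    ((∃ p : ℕ, p.Prime ∧ Fintype.card F = p ∧ (p % 3 = 1)) ∧ ∃ R : Subgroup (GL (Fin 9) F), IsLinearSymplecticTypeData 3 R ∧ H = subgroupNormalizer R ⊓ specialLinear (Fin 9) F) ∨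
    (∃ (e : Fin 9 ≃ (Fin 2 → Fin 3)) (P : GL (Fin 9) F), H = tensorWreathSubgroup 3 2 e P ⊓ specialLinear (Fin 9) F) ∨
    (Odd (Fintype.card F) ∧ ∃ Q : (Fin 9 → F) → F, IsNondegenerateQuadraticForm Q ∧ H = quadSimilarityGroup Q ⊓ specialLinear (Fin 9) F) ∨
    (∃ (σ : F ≃+* F) (f : (Fin 9 → F) → (Fin 9 → F) → F), IsUnitaryForm σ f ∧ H = similarityGroup f ⊓ specialLinear (Fin 9) F) ∨
    InLinearResidualClass H := by
  have hn : 3 ≤ 9 := by norm_num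
  have hq1 : 1 < Fintype.card F := Fintype.one_lt_card
  rcases lx_max hn hASG hH with ⟨W, h0, h1, hW⟩ | ⟨t, m, D, hD, hHD⟩ | ⟨r, K, hr, hK, hHK⟩ |
    ⟨n₁, n₂, e, P, h1, h2, hHT⟩ | ⟨F₀, r, P, hr, hc, hHS⟩ | ⟨r, R, hR, hHR⟩ | ⟨m, t, e, P, hm, ht, hHW⟩ |
    ⟨f, hf, he, h4, hHf⟩ | ⟨σ, f, hf, hHf⟩ | ⟨Q, hQ, ho, hHQ⟩ | hres
  · exact Or.inl ⟨W, h0, h1, hW⟩
  · have hc := Cfsg.Agent.Lib.Helper28.Ld.card_eq D hD
    have h2 := hD.two_le
    have h0 := hD.pos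
    have ht6 : t ≤ 9 := by nlinarith
    interval_cases t
    · omega
    · -- t = 3, m = 3
      obtain rfl : m = 3 := by omega
      exact Or.inr (Or.inr (Or.inl ⟨D, hD, hHD⟩))
    · omega
    · omega
    · omega
    · omega
    · omega
    · -- t = 9, m = 1
      obtain rfl : m = 1 := by omega
      by_cases h5 : 5 ≤ Fintype.card F
      · exact Or.inr (Or.inl ⟨h5, D, hD, hHD⟩)
      · rcases lx_frame hn hH D hD hHD h5 with ⟨W, h0, h1, hW⟩ | ⟨ho, Q, hQ, hHQ⟩ | ⟨σ, f, hf, hHf⟩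
        · exact Or.inl ⟨W, h0, h1, hW⟩
        · exact Or.inr (Or.inr (Or.inr (Or.inr (Or.inr (Or.inr (Or.inr (Or.inl ⟨ho, Q, hQ, hHQ⟩)))))))
        · exact Or.inr (Or.inr (Or.inr (Or.inr (Or.inr (Or.inr (Or.inr (Or.inr (Or.inl ⟨σ, f, hf, hHf⟩))))))))
  · have hdvd : r ∣ 9 := field_finrank_dvd (by norm_num) K hK
    have hr6 : r ≤ 9 := Nat.le_of_dvd (by norm_num) hdvd
    have hr2 := hr.two_le
    interval_cases r
    · exact absurd hdvd (by norm_num)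
    · exact Or.inr (Or.inr (Or.inr (Or.inl ⟨K, hK, hHK⟩)))
    · exact absurd hr (by norm_num)
    · exact absurd hdvd (by norm_num)
    · exact absurd hr (by norm_num)
    · exact absurd hdvd (by norm_num)
    · exact absurd hr (by norm_num)
    · exact absurd hr (by norm_num)
  · have hc := lx_tensor_card e
    exfalso
    have hn1 : n₁ ≤ 9 := by nlinarith
    have hn2 : n₂ ≤ 9 := by nlinarith
    interval_cases n₁ <;> interval_cases n₂ <;> omega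
  · exact Or.inr (Or.inr (Or.inr (Or.inr (Or.inl ⟨F₀, r, P, hr, hc, hHS⟩))))
  · obtain ⟨hr, ⟨m, hm1, hm⟩, hfield⟩ := symplType_dim hn R hR
    have hr0 : r = 3 := ((Nat.prime_dvd_prime_iff_eq Nat.prime_three hr).mp
      (Nat.prime_three.dvd_of_dvd_pow (hm ▸ (by norm_num : 3 ∣ 9)))).symm
    subst hr0
    rcases hfield with ⟨h32, -⟩ | ⟨-, p, e', hp, hch, hoe, hcard, hdvd, hmin⟩
    · omega
    · obtain ⟨he1, hmod⟩ := arith_three hp hoe hdvd hmin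
      subst he1
      rw [pow_one] at hcard
      exact Or.inr (Or.inr (Or.inr (Or.inr (Or.inr (Or.inl ⟨⟨p, hp, hcard, hmod⟩, R, hR, hHR⟩)))))
  · have hc := lx_wreath_card e
    have h9 : 3 ^ 2 ≤ m ^ t := (Nat.pow_le_pow_left hm 2).trans (Nat.pow_le_pow_right (by omega) ht)
    have hm3 : m = 3 := by
      by_contra hne
      have hm4 : 4 ≤ m := by omega
      have : 4 ^ 2 ≤ m ^ t := (Nat.pow_le_pow_left hm4 2).trans (Nat.pow_le_pow_right (by omega) ht)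
      omega
    subst hm3
    have ht2 : t = 2 := by
      by_contra hne
      have ht3 : 3 ≤ t := by omega
      have : 3 ^ 3 ≤ 3 ^ t := Nat.pow_le_pow_right (by norm_num) ht3
      omega
    subst ht2
    exact Or.inr (Or.inr (Or.inr (Or.inr (Or.inr (Or.inr (Or.inl ⟨e, P, hHW⟩))))))
  · exact absurd he (by decide)
  · exact Or.inr (Or.inr (Or.inr (Or.inr (Or.inr (Or.inr (Or.inr (Or.inr (Or.inl ⟨σ, f, hf, hHf⟩))))))))
  · exact Or.inr (Or.inr (Or.inr (Or.inr (Or.inr (Or.inr (Or.inr (Or.inl ⟨ho, Q, hQ, hHQ⟩)))))))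
  · exact Or.inr (Or.inr (Or.inr (Or.inr (Or.inr (Or.inr (Or.inr (Or.inr (Or.inr (hres)))))))))

/-- `SL_10` -/
theorem lx10 (hASG : ASGStmt 10 F) (H : Subgroup (GL (Fin 10) F))
    (hH : IsMaximalIn (specialLinear (Fin 10) F) H) :
    (∃ W : Submodule F (Fin 10 → F), W ≠ ⊥ ∧ W ≠ ⊤ ∧ H = subspaceStabilizer W ⊓ specialLinear (Fin 10) F) ∨
    (5 ≤ Fintype.card F ∧ ∃ D : Fin 10 → Submodule F (Fin 10 → F), IsMDecomposition 1 D ∧ H = decompositionStabilizer D ⊓ specialLinear (Fin 10) F) ∨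
    (3 ≤ Fintype.card F ∧ ∃ D : Fin 5 → Submodule F (Fin 10 → F), IsMDecomposition 2 D ∧ H = decompositionStabilizer D ⊓ specialLinear (Fin 10) F) ∨
    (∃ D : Fin 2 → Submodule F (Fin 10 → F), IsMDecomposition 5 D ∧ H = decompositionStabilizer D ⊓ specialLinear (Fin 10) F) ∨
    (∃ K : Subalgebra F (Matrix (Fin 10) (Fin 10) F), IsFieldSubalgebra 5 K ∧ H = subalgebraNormalizer K ⊓ specialLinear (Fin 10) F) ∨
    (∃ K : Subalgebra F (Matrix (Fin 10) (Fin 10) F), IsFieldSubalgebra 2 K ∧ H = subalgebraNormalizer K ⊓ specialLinear (Fin 10) F) ∨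
    (3 ≤ Fintype.card F ∧ ∃ (e : Fin 10 ≃ Fin 2 × Fin 5) (P : GL (Fin 10) F), H = tensorProductSubgroup 2 5 e P ⊓ specialLinear (Fin 10) F) ∨
    (∃ (F₀ : Subfield F) (r : ℕ) (P : GL (Fin 10) F), r.Prime ∧ Fintype.card F = Nat.card F₀ ^ r ∧ H = subfieldSubgroup F₀ P ⊓ specialLinear (Fin 10) F) ∨
    (Odd (Fintype.card F) ∧ ∃ Q : (Fin 10 → F) → F, IsNondegenerateQuadraticForm Q ∧ H = quadSimilarityGroup Q ⊓ specialLinear (Fin 10) F) ∨
    (∃ f : (Fin 10 → F) → (Fin 10 → F) → F, IsSymplecticForm f ∧ H = similarityGroup f ⊓ specialLinear (Fin 10) F) ∨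
    (∃ (σ : F ≃+* F) (f : (Fin 10 → F) → (Fin 10 → F) → F), IsUnitaryForm σ f ∧ H = similarityGroup f ⊓ specialLinear (Fin 10) F) ∨
    InLinearResidualClass H := by
  have hn : 3 ≤ 10 := by norm_num
  have hq1 : 1 < Fintype.card F := Fintype.one_lt_card
  rcases lx_max hn hASG hH with ⟨W, h0, h1, hW⟩ | ⟨t, m, D, hD, hHD⟩ | ⟨r, K, hr, hK, hHK⟩ |
    ⟨n₁, n₂, e, P, h1, h2, hHT⟩ | ⟨F₀, r, P, hr, hc, hHS⟩ | ⟨r, R, hR, hHR⟩ | ⟨m, t, e, P, hm, ht, hHW⟩ |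
    ⟨f, hf, he, h4, hHf⟩ | ⟨σ, f, hf, hHf⟩ | ⟨Q, hQ, ho, hHQ⟩ | hres
  · exact Or.inl ⟨W, h0, h1, hW⟩
  · have hc := Cfsg.Agent.Lib.Helper28.Ld.card_eq D hD
    have h2 := hD.two_le
    have h0 := hD.pos
    have ht6 : t ≤ 10 := by nlinarith
    interval_cases t
    · -- t = 2, m = 5
      obtain rfl : m = 5 := by omega
      exact Or.inr (Or.inr (Or.inr (Or.inl ⟨D, hD, hHD⟩)))
    · omega
    · omega
    · -- t = 5, m = 2
      obtain rfl : m = 2 := by omega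
      by_cases h3 : 3 ≤ Fintype.card F
      · exact Or.inr (Or.inr (Or.inl ⟨h3, D, hD, hHD⟩))
      · obtain ⟨f, hf, hHf⟩ := lx_planes2 hn hH D hD hHD h3
        exact Or.inr (Or.inr (Or.inr (Or.inr (Or.inr (Or.inr (Or.inr (Or.inr (Or.inr (Or.inl ⟨f, hf, hHf⟩)))))))))
    · omega
    · omega
    · omega
    · omega
    · -- t = 10, m = 1
      obtain rfl : m = 1 := by omega
      by_cases h5 : 5 ≤ Fintype.card F
      · exact Or.inr (Or.inl ⟨h5, D, hD, hHD⟩)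
      · rcases lx_frame hn hH D hD hHD h5 with ⟨W, h0, h1, hW⟩ | ⟨ho, Q, hQ, hHQ⟩ | ⟨σ, f, hf, hHf⟩
        · exact Or.inl ⟨W, h0, h1, hW⟩
        · exact Or.inr (Or.inr (Or.inr (Or.inr (Or.inr (Or.inr (Or.inr (Or.inr (Or.inl ⟨ho, Q, hQ, hHQ⟩))))))))
        · exact Or.inr (Or.inr (Or.inr (Or.inr (Or.inr (Or.inr (Or.inr (Or.inr (Or.inr (Or.inr (Or.inl ⟨σ, f, hf, hHf⟩))))))))))
  · have hdvd : r ∣ 10 := field_finrank_dvd (by norm_num) K hK
    have hr6 : r ≤ 10 := Nat.le_of_dvd (by norm_num) hdvd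
    have hr2 := hr.two_le
    interval_cases r
    · exact Or.inr (Or.inr (Or.inr (Or.inr (Or.inr (Or.inl ⟨K, hK, hHK⟩)))))
    · exact absurd hdvd (by norm_num)
    · exact absurd hr (by norm_num)
    · exact Or.inr (Or.inr (Or.inr (Or.inr (Or.inl ⟨K, hK, hHK⟩))))
    · exact absurd hr (by norm_num)
    · exact absurd hdvd (by norm_num)
    · exact absurd hr (by norm_num)
    · exact absurd hr (by norm_num)
    · exact absurd hr (by norm_num)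
  · have hc := lx_tensor_card e
    have hn1 : n₁ ≤ 10 := by nlinarith
    have hn2 : n₂ ≤ 10 := by nlinarith
    interval_cases n₁ <;> interval_cases n₂ <;> first | omega | skip
    · by_cases h3 : 3 ≤ Fintype.card F
      · exact Or.inr (Or.inr (Or.inr (Or.inr (Or.inr (Or.inr (Or.inl ⟨h3, e, P, hHT⟩))))))
      · obtain ⟨K, hK, hHK⟩ := lx_tensor2 hn hH e P hHT h3
        exact Or.inr (Or.inr (Or.inr (Or.inr (Or.inr (Or.inl ⟨K, hK, hHK⟩)))))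
  · exact Or.inr (Or.inr (Or.inr (Or.inr (Or.inr (Or.inr (Or.inr (Or.inl ⟨F₀, r, P, hr, hc, hHS⟩)))))))
  · obtain ⟨hr, ⟨m, hm1, hm⟩, -⟩ := symplType_dim hn R hR
    exact absurd hm (lx_not_prime_pow hr).2.1
  · have hc := lx_wreath_card e
    exfalso
    have h9 : 3 ^ 2 ≤ m ^ t := (Nat.pow_le_pow_left hm 2).trans (Nat.pow_le_pow_right (by omega) ht)
    by_cases hm4 : 4 ≤ m
    · have : 4 ^ 2 ≤ m ^ t := (Nat.pow_le_pow_left hm4 2).trans (Nat.pow_le_pow_right (by omega) ht)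
      omega
    · obtain rfl : m = 3 := by omega
      by_cases ht3 : 3 ≤ t
      · have : 3 ^ 3 ≤ 3 ^ t := Nat.pow_le_pow_right (by norm_num) ht3
        omega
      · obtain rfl : t = 2 := by omega
        norm_num at hc
  · exact Or.inr (Or.inr (Or.inr (Or.inr (Or.inr (Or.inr (Or.inr (Or.inr (Or.inr (Or.inl ⟨f, hf, hHf⟩)))))))))
  · exact Or.inr (Or.inr (Or.inr (Or.inr (Or.inr (Or.inr (Or.inr (Or.inr (Or.inr (Or.inr (Or.inl ⟨σ, f, hf, hHf⟩))))))))))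
  · exact Or.inr (Or.inr (Or.inr (Or.inr (Or.inr (Or.inr (Or.inr (Or.inr (Or.inl ⟨ho, Q, hQ, hHQ⟩))))))))
  · exact Or.inr (Or.inr (Or.inr (Or.inr (Or.inr (Or.inr (Or.inr (Or.inr (Or.inr (Or.inr (Or.inr (hres)))))))))))

/-- `SL_12` -/
theorem lx12 (hASG : ASGStmt 12 F) (H : Subgroup (GL (Fin 12) F))
    (hH : IsMaximalIn (specialLinear (Fin 12) F) H) :
    (∃ W : Submodule F (Fin 12 → F), W ≠ ⊥ ∧ W ≠ ⊤ ∧ H = subspaceStabilizer W ⊓ specialLinear (Fin 12) F) ∨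
    (5 ≤ Fintype.card F ∧ ∃ D : Fin 12 → Submodule F (Fin 12 → F), IsMDecomposition 1 D ∧ H = decompositionStabilizer D ⊓ specialLinear (Fin 12) F) ∨
    (3 ≤ Fintype.card F ∧ ∃ D : Fin 6 → Submodule F (Fin 12 → F), IsMDecomposition 2 D ∧ H = decompositionStabilizer D ⊓ specialLinear (Fin 12) F) ∨
    (∃ D : Fin 4 → Submodule F (Fin 12 → F), IsMDecomposition 3 D ∧ H = decompositionStabilizer D ⊓ specialLinear (Fin 12) F) ∨
    (∃ D : Fin 3 → Submodule F (Fin 12 → F), IsMDecomposition 4 D ∧ H = decompositionStabilizer D ⊓ specialLinear (Fin 12) F) ∨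
    (∃ D : Fin 2 → Submodule F (Fin 12 → F), IsMDecomposition 6 D ∧ H = decompositionStabilizer D ⊓ specialLinear (Fin 12) F) ∨
    (∃ K : Subalgebra F (Matrix (Fin 12) (Fin 12) F), IsFieldSubalgebra 2 K ∧ H = subalgebraNormalizer K ⊓ specialLinear (Fin 12) F) ∨
    (∃ K : Subalgebra F (Matrix (Fin 12) (Fin 12) F), IsFieldSubalgebra 3 K ∧ H = subalgebraNormalizer K ⊓ specialLinear (Fin 12) F) ∨
    (3 ≤ Fintype.card F ∧ ∃ (e : Fin 12 ≃ Fin 2 × Fin 6) (P : GL (Fin 12) F), H = tensorProductSubgroup 2 6 e P ⊓ specialLinear (Fin 12) F) ∨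
    (∃ (e : Fin 12 ≃ Fin 3 × Fin 4) (P : GL (Fin 12) F), H = tensorProductSubgroup 3 4 e P ⊓ specialLinear (Fin 12) F) ∨
    (∃ (F₀ : Subfield F) (r : ℕ) (P : GL (Fin 12) F), r.Prime ∧ Fintype.card F = Nat.card F₀ ^ r ∧ H = subfieldSubgroup F₀ P ⊓ specialLinear (Fin 12) F) ∨
    (Odd (Fintype.card F) ∧ ∃ Q : (Fin 12 → F) → F, IsNondegenerateQuadraticForm Q ∧ H = quadSimilarityGroup Q ⊓ specialLinear (Fin 12) F) ∨
    (∃ f : (Fin 12 → F) → (Fin 12 → F) → F, IsSymplecticForm f ∧ H = similarityGroup f ⊓ specialLinear (Fin 12) F) ∨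
    (∃ (σ : F ≃+* F) (f : (Fin 12 → F) → (Fin 12 → F) → F), IsUnitaryForm σ f ∧ H = similarityGroup f ⊓ specialLinear (Fin 12) F) ∨
    InLinearResidualClass H := by
  have hn : 3 ≤ 12 := by norm_num
  have hq1 : 1 < Fintype.card F := Fintype.one_lt_card
  rcases lx_max hn hASG hH with ⟨W, h0, h1, hW⟩ | ⟨t, m, D, hD, hHD⟩ | ⟨r, K, hr, hK, hHK⟩ |
    ⟨n₁, n₂, e, P, h1, h2, hHT⟩ | ⟨F₀, r, P, hr, hc, hHS⟩ | ⟨r, R, hR, hHR⟩ | ⟨m, t, e, P, hm, ht, hHW⟩ |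
    ⟨f, hf, he, h4, hHf⟩ | ⟨σ, f, hf, hHf⟩ | ⟨Q, hQ, ho, hHQ⟩ | hres
  · exact Or.inl ⟨W, h0, h1, hW⟩
  · have hc := Cfsg.Agent.Lib.Helper28.Ld.card_eq D hD
    have h2 := hD.two_le
    have h0 := hD.pos
    have ht6 : t ≤ 12 := by nlinarith
    interval_cases t
    · -- t = 2, m = 6
      obtain rfl : m = 6 := by omega
      exact Or.inr (Or.inr (Or.inr (Or.inr (Or.inr (Or.inl ⟨D, hD, hHD⟩)))))
    · -- t = 3, m = 4
      obtain rfl : m = 4 := by omega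
      exact Or.inr (Or.inr (Or.inr (Or.inr (Or.inl ⟨D, hD, hHD⟩))))
    · -- t = 4, m = 3
      obtain rfl : m = 3 := by omega
      exact Or.inr (Or.inr (Or.inr (Or.inl ⟨D, hD, hHD⟩)))
    · omega
    · -- t = 6, m = 2
      obtain rfl : m = 2 := by omega
      by_cases h3 : 3 ≤ Fintype.card F
      · exact Or.inr (Or.inr (Or.inl ⟨h3, D, hD, hHD⟩))
      · obtain ⟨f, hf, hHf⟩ := lx_planes2 hn hH D hD hHD h3
        exact Or.inr (Or.inr (Or.inr (Or.inr (Or.inr (Or.inr (Or.inr (Or.inr (Or.inr (Or.inr (Or.inr (Or.inr (Or.inl ⟨f, hf, hHf⟩))))))))))))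
    · omega
    · omega
    · omega
    · omega
    · omega
    · -- t = 12, m = 1
      obtain rfl : m = 1 := by omega
      by_cases h5 : 5 ≤ Fintype.card F
      · exact Or.inr (Or.inl ⟨h5, D, hD, hHD⟩)
      · rcases lx_frame hn hH D hD hHD h5 with ⟨W, h0, h1, hW⟩ | ⟨ho, Q, hQ, hHQ⟩ | ⟨σ, f, hf, hHf⟩
        · exact Or.inl ⟨W, h0, h1, hW⟩
        · exact Or.inr (Or.inr (Or.inr (Or.inr (Or.inr (Or.inr (Or.inr (Or.inr (Or.inr (Or.inr (Or.inr (Or.inl ⟨ho, Q, hQ, hHQ⟩)))))))))))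
        · exact Or.inr (Or.inr (Or.inr (Or.inr (Or.inr (Or.inr (Or.inr (Or.inr (Or.inr (Or.inr (Or.inr (Or.inr (Or.inr (Or.inl ⟨σ, f, hf, hHf⟩)))))))))))))
  · have hdvd : r ∣ 12 := field_finrank_dvd (by norm_num) K hK
    have hr6 : r ≤ 12 := Nat.le_of_dvd (by norm_num) hdvd
    have hr2 := hr.two_le
    interval_cases r
    · exact Or.inr (Or.inr (Or.inr (Or.inr (Or.inr (Or.inr (Or.inl ⟨K, hK, hHK⟩))))))
    · exact Or.inr (Or.inr (Or.inr (Or.inr (Or.inr (Or.inr (Or.inr (Or.inl ⟨K, hK, hHK⟩)))))))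
    · exact absurd hr (by norm_num)
    · exact absurd hdvd (by norm_num)
    · exact absurd hr (by norm_num)
    · exact absurd hdvd (by norm_num)
    · exact absurd hr (by norm_num)
    · exact absurd hr (by norm_num)
    · exact absurd hr (by norm_num)
    · exact absurd hdvd (by norm_num)
    · exact absurd hr (by norm_num)
  · have hc := lx_tensor_card e
    have hn1 : n₁ ≤ 12 := by nlinarith
    have hn2 : n₂ ≤ 12 := by nlinarith
    interval_cases n₁ <;> interval_cases n₂ <;> first | omega | skip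
    · by_cases h3 : 3 ≤ Fintype.card F
      · exact Or.inr (Or.inr (Or.inr (Or.inr (Or.inr (Or.inr (Or.inr (Or.inr (Or.inl ⟨h3, e, P, hHT⟩))))))))
      · obtain ⟨K, hK, hHK⟩ := lx_tensor2 hn hH e P hHT h3
        exact Or.inr (Or.inr (Or.inr (Or.inr (Or.inr (Or.inr (Or.inl ⟨K, hK, hHK⟩))))))
    · exact Or.inr (Or.inr (Or.inr (Or.inr (Or.inr (Or.inr (Or.inr (Or.inr (Or.inr (Or.inl ⟨e, P, hHT⟩)))))))))
  · exact Or.inr (Or.inr (Or.inr (Or.inr (Or.inr (Or.inr (Or.inr (Or.inr (Or.inr (Or.inr (Or.inl ⟨F₀, r, P, hr, hc, hHS⟩))))))))))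
  · obtain ⟨hr, ⟨m, hm1, hm⟩, -⟩ := symplType_dim hn R hR
    exact absurd hm (lx_not_prime_pow hr).2.2
  · have hc := lx_wreath_card e
    exfalso
    have h9 : 3 ^ 2 ≤ m ^ t := (Nat.pow_le_pow_left hm 2).trans (Nat.pow_le_pow_right (by omega) ht)
    by_cases hm4 : 4 ≤ m
    · have : 4 ^ 2 ≤ m ^ t := (Nat.pow_le_pow_left hm4 2).trans (Nat.pow_le_pow_right (by omega) ht)
      omega
    · obtain rfl : m = 3 := by omega
      by_cases ht3 : 3 ≤ t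
      · have : 3 ^ 3 ≤ 3 ^ t := Nat.pow_le_pow_right (by norm_num) ht3
        omega
      · obtain rfl : t = 2 := by omega
        norm_num at hc
  · exact Or.inr (Or.inr (Or.inr (Or.inr (Or.inr (Or.inr (Or.inr (Or.inr (Or.inr (Or.inr (Or.inr (Or.inr (Or.inl ⟨f, hf, hHf⟩))))))))))))
  · exact Or.inr (Or.inr (Or.inr (Or.inr (Or.inr (Or.inr (Or.inr (Or.inr (Or.inr (Or.inr (Or.inr (Or.inr (Or.inr (Or.inl ⟨σ, f, hf, hHf⟩)))))))))))))
  · exact Or.inr (Or.inr (Or.inr (Or.inr (Or.inr (Or.inr (Or.inr (Or.inr (Or.inr (Or.inr (Or.inr (Or.inl ⟨ho, Q, hQ, hHQ⟩)))))))))))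
  · exact Or.inr (Or.inr (Or.inr (Or.inr (Or.inr (Or.inr (Or.inr (Or.inr (Or.inr (Or.inr (Or.inr (Or.inr (Or.inr (Or.inr (hres))))))))))))))

/-- `SL_4` -/
theorem lx4 (hASG : ASGStmt 4 F) (H : Subgroup (GL (Fin 4) F))
    (hH : IsMaximalIn (specialLinear (Fin 4) F) H) :
    (∃ W : Submodule F (Fin 4 → F), W ≠ ⊥ ∧ W ≠ ⊤ ∧ H = subspaceStabilizer W ⊓ specialLinear (Fin 4) F) ∨
    (7 ≤ Fintype.card F ∧ ∃ D : Fin 4 → Submodule F (Fin 4 → F), IsMDecomposition 1 D ∧ H = decompositionStabilizer D ⊓ specialLinear (Fin 4) F) ∨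
    (4 ≤ Fintype.card F ∧ ∃ D : Fin 2 → Submodule F (Fin 4 → F), IsMDecomposition 2 D ∧ H = decompositionStabilizer D ⊓ specialLinear (Fin 4) F) ∨
    (∃ K : Subalgebra F (Matrix (Fin 4) (Fin 4) F), IsFieldSubalgebra 2 K ∧ H = subalgebraNormalizer K ⊓ specialLinear (Fin 4) F) ∨
    (∃ (F₀ : Subfield F) (r : ℕ) (P : GL (Fin 4) F), r.Prime ∧ Fintype.card F = Nat.card F₀ ^ r ∧ H = subfieldSubgroup F₀ P ⊓ specialLinear (Fin 4) F) ∨
    (∃ (p : ℕ) (R : Subgroup (GL (Fin 4) F)), p.Prime ∧ Fintype.card F = p ∧ p % 4 = 1 ∧ IsLinearSymplecticTypeData 2 R ∧ H = subgroupNormalizer R ⊓ specialLinear (Fin 4) F) ∨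
    (Odd (Fintype.card F) ∧ ∃ Q : (Fin 4 → F) → F, IsNondegenerateQuadraticForm Q ∧ H = quadSimilarityGroup Q ⊓ specialLinear (Fin 4) F) ∨
    (∃ f : (Fin 4 → F) → (Fin 4 → F) → F, IsSymplecticForm f ∧ H = similarityGroup f ⊓ specialLinear (Fin 4) F) ∨
    (∃ (σ : F ≃+* F) (f : (Fin 4 → F) → (Fin 4 → F) → F), IsUnitaryForm σ f ∧ H = similarityGroup f ⊓ specialLinear (Fin 4) F) ∨
    InLinearResidualClass H := by
  have hn : 3 ≤ 4 := by norm_num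
  have hq1 : 1 < Fintype.card F := Fintype.one_lt_card
  rcases lx_max hn hASG hH with ⟨W, h0, h1, hW⟩ | ⟨t, m, D, hD, hHD⟩ | ⟨r, K, hr, hK, hHK⟩ |
    ⟨n₁, n₂, e, P, h1, h2, hHT⟩ | ⟨F₀, r, P, hr, hc, hHS⟩ | ⟨r, R, hR, hHR⟩ | ⟨m, t, e, P, hm, ht, hHW⟩ |
    ⟨f, hf, he, h4, hHf⟩ | ⟨σ, f, hf, hHf⟩ | ⟨Q, hQ, ho, hHQ⟩ | hres
  · exact Or.inl ⟨W, h0, h1, hW⟩
  · have hc := Cfsg.Agent.Lib.Helper28.Ld.card_eq D hD
    have h2 := hD.two_le
    have h0 := hD.pos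
    have ht6 : t ≤ 4 := by nlinarith
    interval_cases t
    · -- t = 2, m = 2
      obtain rfl : m = 2 := by omega
      by_cases h3 : 4 ≤ Fintype.card F
      · exact Or.inr (Or.inr (Or.inl ⟨h3, D, hD, hHD⟩))
      · by_cases h3' : 3 ≤ Fintype.card F
        · obtain ⟨f, hf, hfle⟩ := planes4_q3 D hD (by omega)
          have hle : H ≤ similarityGroup f := by
            have : H ≤ decompositionStabilizer D ⊓ specialLinear (Fin 4) F := hHD.le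
            exact this.trans hfle
          exact Or.inr (Or.inr (Or.inr (Or.inr (Or.inr (Or.inr (Or.inr (Or.inl ⟨f, hf, max_principle hH hle (pr_symp hn f hf)⟩)))))))
        · obtain ⟨f, hf, hHf⟩ := lx_planes2 hn hH D hD hHD h3'
          exact Or.inr (Or.inr (Or.inr (Or.inr (Or.inr (Or.inr (Or.inr (Or.inl ⟨f, hf, hHf⟩)))))))
    · omega
    · -- t = 4, m = 1
      obtain rfl : m = 1 := by omega
      by_cases h5 : 7 ≤ Fintype.card F
      · exact Or.inr (Or.inl ⟨h5, D, hD, hHD⟩)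
      · by_cases h5' : 5 ≤ Fintype.card F
        · exfalso
          have h56 : Fintype.card F = 5 ∨ Fintype.card F = 6 := by omega
          rcases h56 with h56 | h56
          · exact frame4_q5 D hD h56 (hHD ▸ hH)
          · obtain ⟨p, -, k, hp, hk⟩ := FiniteField.card' F
            rw [h56] at hk
            exact (lx_not_prime_pow hp).1 hk
        rcases lx_frame hn hH D hD hHD h5' with ⟨W, h0, h1, hW⟩ | ⟨ho, Q, hQ, hHQ⟩ | ⟨σ, f, hf, hHf⟩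
        · exact Or.inl ⟨W, h0, h1, hW⟩
        · exact Or.inr (Or.inr (Or.inr (Or.inr (Or.inr (Or.inr (Or.inl ⟨ho, Q, hQ, hHQ⟩))))))
        · exact Or.inr (Or.inr (Or.inr (Or.inr (Or.inr (Or.inr (Or.inr (Or.inr (Or.inl ⟨σ, f, hf, hHf⟩))))))))
  · have hdvd : r ∣ 4 := field_finrank_dvd (by norm_num) K hK
    have hr6 : r ≤ 4 := Nat.le_of_dvd (by norm_num) hdvd
    have hr2 := hr.two_le
    interval_cases r
    · exact Or.inr (Or.inr (Or.inr (Or.inl ⟨K, hK, hHK⟩)))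
    · exact absurd hdvd (by norm_num)
    · exact absurd hr (by norm_num)
  · have hc := lx_tensor_card e
    exfalso
    have hn1 : n₁ ≤ 4 := by nlinarith
    have hn2 : n₂ ≤ 4 := by nlinarith
    interval_cases n₁ <;> interval_cases n₂ <;> omega
  · exact Or.inr (Or.inr (Or.inr (Or.inr (Or.inl ⟨F₀, r, P, hr, hc, hHS⟩))))
  · obtain ⟨hr, ⟨m, hm1, hm⟩, hfield⟩ := symplType_dim hn R hR
    have hr0 : r = 2 := ((Nat.prime_dvd_prime_iff_eq Nat.prime_two hr).mp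
      (Nat.prime_two.dvd_of_dvd_pow (hm ▸ (by norm_num : 2 ∣ 4)))).symm
    subst hr0
    rcases hfield with ⟨-, p, hp, hcard, hmod⟩ | ⟨hodd, -⟩
    · exact Or.inr (Or.inr (Or.inr (Or.inr (Or.inr (Or.inl ⟨p, R, hp, hcard, hmod, hR, hHR⟩)))))
    · exact absurd hodd (by decide)
  · have hc := lx_wreath_card e
    have : 3 ^ 2 ≤ m ^ t := (Nat.pow_le_pow_left hm 2).trans (Nat.pow_le_pow_right (by omega) ht)
    omega
  · exact Or.inr (Or.inr (Or.inr (Or.inr (Or.inr (Or.inr (Or.inr (Or.inl ⟨f, hf, hHf⟩)))))))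
  · exact Or.inr (Or.inr (Or.inr (Or.inr (Or.inr (Or.inr (Or.inr (Or.inr (Or.inl ⟨σ, f, hf, hHf⟩))))))))
  · exact Or.inr (Or.inr (Or.inr (Or.inr (Or.inr (Or.inr (Or.inl ⟨ho, Q, hQ, hHQ⟩))))))
  · exact Or.inr (Or.inr (Or.inr (Or.inr (Or.inr (Or.inr (Or.inr (Or.inr (Or.inr (hres)))))))))


end Cfsg.Agent.Lib.helper7.LX
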